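import Groth.Prelude.Def_RelCanon
import Groth.Agent.RhoShLib.Hartogs
import Groth.Agent.Misc7.DepthTwoExtend
import Groth.Agent.RefRank.Extend
import Groth.Agent.PicAux.Hartogs
import Groth.Agent.Misc14.NormalTotal
import Groth.Agent.S2668

/-! Hartogs extension for `S₂`-morphisms. -/

set_option autoImplicit false
set_option linter.style.haveILetI false

universe u

open CategoryTheory AlgebraicGeometry TopologicalSpace IsLocalRing

namespace Groth.QGorUnit

variable {X : Scheme.{u}}

/-- The structure sheaf extends uniquely across a closed subset along which the depth is at least two. -/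
theorem goodRes_structure_of_depth [IsLocallyNoetherian X] {U : X.Opens} [QuasiCompact U.ι]
    (hU : ∀ x : X, x ∉ U → (2 : ℕ∞) ≤ LocCoh.depth (X.presheaf.stalk x) (X.presheaf.stalk x)) :
    RhoShLib.GoodRes U (Coh.structureModule X) := by
  have heq : ∀ W : X.Opens, U.ι ''ᵁ U.ι ⁻¹ᵁ W = W ⊓ U := fun W => by
    rw [Scheme.Hom.image_preimage_eq_opensRange_inf, Scheme.Opens.opensRange_ι, inf_comm]
  have hF : PicAux.FunBij U.ι := PicAux.funBij_of_affine fun W hW =>
    Misc7.DepthTwo.bijective_restrict (U := U)
      (fun z hz => RefRank.exists_isWeaklyRegular_pair (hU z hz)) hW (heq W) _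
  intro W
  have key : ∀ (W' : X.Opens) (h : W' ≤ W), W' = U.ι ''ᵁ U.ι ⁻¹ᵁ W →
      Function.Bijective (QCohMod.res (Coh.structureModule X) h) := by
    rintro W' h rfl
    exact hF W
  exact key _ _ (heq W).symm

/-- A module satisfying `(S₂)` at a point has depth at least two there if the local dimension is at
least two. -/
theorem two_le_depth_of_skAt {y : X} [IsLocallyNoetherian X]
    (h : RelCanon.SkAt 2 (Coh.structureModule X) y) (hd : (2 : WithBot ℕ∞) ≤ ringKrullDim (X.presheaf.stalk y)) :
    (2 : ℕ∞) ≤ LocCoh.depth (X.presheaf.stalk y) (X.presheaf.stalk y) := by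
  have h1 := Misc14.NormalTotal.min_le_depth_of_hasSk
    (Groth.Agent.S2668.hasSk_congr (RefRank.oneEquiv y).symm h)
  rw [show ((2 : ℕ) : WithBot ℕ∞) = 2 from rfl, min_eq_left hd] at h1
  exact WithBot.coe_le_coe.1 h1

variable {S : Scheme.{u}} (f : X ⟶ S)

/-- Along a set of fibre codimension at least two, an `S₂`-morphism to a locally Noetherian scheme has
depth at least two. -/
theorem two_le_depth_of_isSkMor [IsLocallyNoetherian S] (hS : RelCanon.IsSkMor f 2) (y : X)
    (hy : (2 : WithBot ℕ∞) ≤ ringKrullDim (CInt.fiberStalk f y)) :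
    (2 : ℕ∞) ≤ LocCoh.depth (X.presheaf.stalk y) (X.presheaf.stalk y) := by
  obtain ⟨hfl, hft, hsk⟩ := hS
  haveI := LocallyOfFiniteType.isLocallyNoetherian f
  haveI : IsLocallyNoetherian (f.fiber (f y)) :=
    LocallyOfFiniteType.isLocallyNoetherian (f.fiberToSpecResidueField (f y))
  rw [Ega4b.depth_stalk_eq_add f y]
  exact (two_le_depth_of_skAt (hsk y) hy).trans le_add_self

/-- Double duals extend uniquely across a closed subset along which the depth is at least two. -/
theorem isIso_unit_ddual [IsLocallyNoetherian X] {U : X.Opens} [QuasiCompact U.ι]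
    (hU : ∀ x : X, x ∉ U → (2 : ℕ∞) ≤ LocCoh.depth (X.presheaf.stalk x) (X.presheaf.stalk x))
    (M : X.Modules) :
    IsIso ((Scheme.Modules.restrictAdjunction U.ι).unit.app (RefHull.ddual M)) :=
  RhoShLib.isIso_unit_of_goodRes (RhoShLib.goodRes_homSh _ (goodRes_structure_of_depth hU))

end Groth.QGorUnit
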